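import Cfsg.Agent.Lib.Cyc.HalfEq

/-!
# The Brauer-Tuan theorem on simple groups of order `p * q ^ b * g₀` with `g₀ < p - 1`
-/

set_option autoImplicit false

namespace Cfsg.Lib.Cyc

open Cfsg.Lib.Char Cfsg.Lib.Modular Cfsg.Lib.Block Cfsg.Lib.Small Cfsg.Lib.Core Subgroup Finset
open scoped ComplexConjugate MatrixGroups

variable {G : Type*} [Group G] [Finite G] {p e t : ℕ} {S Y : Finset (IrrCharacter G)}
  {a : IrrCharacter G → ℤ} {δ : ℤ} {θ θ' : IrrCharacter G} {x : G}

/-- The characters of negative sign are constituents of `θ * conj θ'`. -/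
theorem PB0.sum_neg_le (h : PB0 p e t S Y a δ) (hθ : θ ∈ Y) (hθ' : θ' ∈ Y) (hne : θ ≠ θ') :
    ∑ χ ∈ S with a χ = -1, charDegree (χ : G → ℂ) ≤ charDegree (θ : G → ℂ) ^ 2 := by
  classical
  have := Fintype.ofFinite G
  have h1 := θ.2.isCharacter.mul θ'.2.conj.isCharacter
  refine (eq_sum_of_constituents h1 (S.filter (a · = -1)) (fun _ => 1)
    fun χ hχ => ?_).exists_apply_one.elim fun n hn => ?_
  swap
  · simp only [Pi.sub_apply, Pi.mul_apply, Finset.sum_apply, Nat.cast_one, one_smul,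
      fun χ : IrrCharacter G => χ.2.apply_one_eq, h.deg_eq hθ hθ', map_natCast] at hn
    exact Nat.le.intro (k := n) (by rw [sq]; exact_mod_cast (sub_eq_iff_eq_add'.1 hn).symm)
  obtain ⟨h2, h3⟩ := mem_filter.1 hχ
  obtain ⟨n, hn⟩ := (θ.2.isCharacter.mul θ.2.conj.isCharacter).exists_inner_eq_nat χ.2.isCharacter
  have h4 : classInner (θ.1 * fun g => conj (θ'.1 g)) χ.1 - classInner (θ.1 * fun g => conj (θ.1 g)) χ.1
      = classInner θ.1 θ.1 - classInner θ.1 θ'.1 := by
    simp only [classInner_def, ← mul_sub, ← sum_sub_distrib, Pi.mul_apply]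
    refine congrArg _ (sum_congr rfl fun g _ => ?_)
    by_cases hg : p ∣ orderOf g
    · rw [h.singS χ h2 g hg, h3]
      simp
      ring
    · simp [h.reg_eq hθ hθ' hg]
  rw [hn, θ.2.inner_self, irr_inner_eq_ite, if_neg hne, sub_zero, sub_eq_iff_eq_add] at h4
  simp [h4]

theorem le_of_dvd_of_lt {p : ℕ} {n : ℤ} (h : (p : ℤ) ∣ n) (h0 : 0 < n) (h1 : n ≠ p) : 2 * p ≤ n := by
  obtain ⟨k, rfl⟩ := h
  have h2 : 0 < k := pos_of_mul_pos_right h0 (Int.natCast_nonneg p)
  have : k ≠ 1 := by rintro rfl; simp at h1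
  nlinarith [show 2 ≤ k by omega]

variable [hp : Fact p.Prime] [IsSimpleGroup G]

/-- Exceptional characters of degree `(p + 1) / 2`. -/
theorem PB.card_sylow (h : PB p e t S Y a 1) (hG : ¬ IsMulCommutative G) (hθ : θ ∈ Y)
    (hx : orderOf x = p) (hC : Nat.card (centralizer ({x} : Set G)) = p) {c b : ℕ}
    (he : e = 2 ^ (c + 1)) (ht : t = 2) (hd : charDegree (θ : G → ℂ) = e + 1)
    (hN : Nat.card G = p * 2 ^ b * (e + 1))
    (h2 : ∀ χ ∈ S, χ ≠ irrOne G → 2 ∣ charDegree (χ : G → ℂ)) : Nat.card (Sylow p G) = p + 1 := by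
  classical
  have h0 := h.mul_add_one
  subst ht
  have hu : 0 < 2 ^ c := by positivity
  obtain ⟨θ', hθ', hne⟩ := exists_mem_ne (h.cardY ▸ one_lt_two) θ
  have h3 := h.sum_neg_le hθ hθ' hne.symm
  have h4 := h.sum_deg' hθ
  have h5 : (S.erase (irrOne G)).filter (¬ a · = 1) = S.filter (a · = -1) := by
    ext χ
    rw [mem_filter, mem_filter, mem_erase]
    exact ⟨fun e => ⟨e.1.2, (h.signS χ e.1.2).resolve_left e.2⟩, fun e =>
      ⟨⟨fun e' => by simp [e', h.a_one] at e, e.1⟩, by simp [e.2]⟩⟩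
  have h6 := card_filter_add_card_filter_not (s := S.erase (irrOne G)) (a · = 1)
  rw [← sum_filter_add_sum_filter_not _ (a · = 1), h5, sum_congr rfl
    (g := fun χ => (charDegree χ.1 : ℤ)) fun χ hχ => by rw [(mem_filter.1 hχ).2, one_mul],
    sum_congr (s₁ := S.filter (a · = -1)) rfl (g := fun χ => -(charDegree χ.1 : ℤ))
    fun χ hχ => by rw [(mem_filter.1 hχ).2, neg_one_mul], sum_neg_distrib] at h4
  rw [h5] at h6
  have h7 := h.card_erase
  have h8 := card_nsmul_le_sum ((S.erase (irrOne G)).filter (a · = 1))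
    (fun χ => (charDegree χ.1 : ℤ)) (p + 1) fun χ hχ => by
      obtain ⟨h8, h9⟩ := mem_filter.1 hχ
      have h10 := one_lt_charDegree (commutator_eq_top_of_simple hG) (ne_of_mem_erase h8)
      have := Int.le_of_dvd (by omega) (h9 ▸ h.modS (mem_of_mem_erase h8))
      omega
  have h9 : ∀ χ ∈ S.filter (a · = -1), charDegree (χ : G → ℂ) + 1 = p ∨
      3 * p ≤ charDegree (χ : G → ℂ) + 1 := fun χ hχ => by
    obtain ⟨h9, h10⟩ := mem_filter.1 hχ
    have h11 := h2 χ h9 fun e => by simp [e, h.a_one] at h10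
    have h12 := h10 ▸ h.modS h9
    have h13 := le_of_dvd_of_lt h12 (by omega)
    have h14 := le_of_dvd_of_lt (h12.sub (dvd_refl _))
    omega
  have h10 : ∀ χ ∈ S.filter (a · = -1), charDegree (χ : G → ℂ) + 1 = p := fun χ hχ =>
    (h9 χ hχ).resolve_right fun h10 => by
      have h11 := card_nsmul_le_sum ((S.filter (a · = -1)).erase χ)
        (fun χ => (charDegree χ.1 : ℤ)) (p - 1) fun ξ hξ => by
          have := h9 ξ (mem_of_mem_erase hξ); omega
      have h12 := add_sum_erase _ (fun χ => (charDegree χ.1 : ℤ)) hχ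
      have h13 := card_erase_add_one hχ
      zify at h3 h6 h7 h13 h0 h10 he hu
      rw [nsmul_eq_mul] at h8 h11
      rw [hd] at h3 h4
      push_cast at h3 h4 hu
      rw [show (p : ℤ) = 4 * 2 ^ c + 1 by omega] at h8 h11 h10
      rw [show (e : ℤ) = 2 * 2 ^ c by omega] at h3 h4 h7
      generalize (2 : ℤ) ^ c = u at *
      have : (#{x ∈ S.erase (irrOne G) | a x = 1} : ℤ) < u := by nlinarith
      nlinarith
  obtain ⟨M, hM⟩ := exists_isPModular Nat.prime_two
  have := Modular.mk hM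
  have h11 := h.bt hθ M (by omega) (fun g hg => by
    have := orderOf_eq_of_selfCent h.toPB0 hx hC (g := g) (hg ▸ dvd_mul_right p 2)
    omega) (isPBlock_principalBlock M) fun θ' hθ' => h.mem_principal_iff M hθ hθ'
  have h12 : S.filter (· ∈ principalBlock M G) ⊆ insert (irrOne G)
      ((S.erase (irrOne G)).filter (a · = 1)) := fun χ hχ => by
    obtain ⟨h12, h13⟩ := mem_filter.1 hχ
    refine mem_insert.2 (or_iff_not_imp_left.2 fun h14 => mem_filter.2 ⟨mem_erase.2 ⟨h14, h12⟩,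
      (h.signS χ h12).resolve_right fun h15 => h14 (eq_irrOne_of_mem_principalBlock_of_degree
        (by simpa [isMulCommutative_iff] using hG) h13 (k := c + 2) ?_)⟩)
    have := h10 χ (mem_filter.2 ⟨h12, h15⟩)
    rw [pow_succ]
    omega
  have h13 : ∀ χ ∈ insert (irrOne G) ((S.erase (irrOne G)).filter (a · = 1)),
      a χ * charDegree χ.1 = charDegree χ.1 := fun χ hχ => by
    rcases mem_insert.1 hχ with rfl | hχ
    exacts [by rw [h.a_one, one_mul], by rw [(mem_filter.1 hχ).2, one_mul]]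
  rw [sum_congr rfl fun χ hχ => h13 χ (h12 hχ)] at h11
  have h14 := sum_le_sum_of_subset_of_nonneg h12 (f := fun χ => (charDegree χ.1 : ℤ))
    fun _ _ _ => Int.natCast_nonneg _
  have h15 := single_le_sum (f := fun χ : IrrCharacter G => (charDegree χ.1 : ℤ))
    (s := S.filter (· ∈ principalBlock M G)) (fun _ _ => Int.natCast_nonneg _)
    (mem_filter.2 ⟨h.one_mem, Block.irrOne_mem_principalBlock⟩)
  rw [sum_insert (by simp)] at h14
  rw [show charDegree (irrOne G).1 = 1 from charDegree_eq (by simp)] at h14 h15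
  have h16 : 2 ^ b ≤ (e + 1) ^ 2 := by
    have h16 := Int.le_of_dvd (by split_ifs <;> omega) ((pow_dvd_pow _
      ((Nat.prime_two.pow_dvd_iff_le_factorization Nat.card_pos.ne').1
        (hN ▸ (dvd_mul_left _ p).mul_right _))).trans h11)
    zify at h3 ⊢
    rw [hd] at h3 h4 h16
    split_ifs at h16 <;> push_cast at h3 h4 h16 <;> omega
  have h17 := h.card_eq hx hC
  obtain ⟨n, h18⟩ := exists_card_sylow_eq (p := p) (G := G)
  rw [hN, mul_assoc, mul_right_inj' hp.out.ne_zero, he] at h17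
  obtain ⟨j, rfl⟩ := Nat.exists_eq_add_of_le ((Nat.pow_dvd_pow_iff_le_right one_lt_two).1
    (Nat.Coprime.dvd_of_dvd_mul_right (by simp) ⟨_, h17⟩))
  rw [pow_add _ (c + 1), mul_assoc, mul_right_inj' (by positivity), ← he] at h17
  rw [pow_add _ (c + 1), ← he] at h16
  have h19 : 0 < 2 ^ j := by positivity
  generalize 2 ^ j = w at h16 h17 h19
  have h20 : w ≤ e + 2 := by nlinarith [show 2 ≤ e by omega]
  have h21 : (w : ℤ) - 2 = 0 := Int.eq_zero_of_abs_lt_dvd (m := p) ⟨2 * n - w, by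
    rw [h18] at h17
    zify at h17 h0
    linear_combination 2 * h17 - w * h0⟩ (abs_lt.2 ⟨by omega, by omega⟩)
  obtain rfl : w = 2 := by omega
  omega

theorem brauer_tuan (hG : ¬ IsMulCommutative G) {q b g₀ : ℕ} (hq : q.Prime) (hpq : p ≠ q)
    (hN : Nat.card G = p * q ^ b * g₀) (hg : g₀ < p - 1) (hqg : ¬ q ∣ g₀) : 3 < p ∧ ∃ m,
      (2 * g₀ + 1 = p ∧ p + 1 = 2 ^ m ∨ 2 * g₀ = p + 1 ∧ p = 2 ^ m + 1) ∧
        Nonempty (G ≃* PSL(2, ZMod p)) ∨ ∃ (F : Type) (_ : Field F) (_ : Fintype F),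
          Fintype.card F = 2 ^ m ∧ p = 2 ^ m + 1 ∧ g₀ + 2 = p ∧ Nonempty (G ≃* PSL(2, F)) := by
  classical
  have h0 : 0 < g₀ := Nat.pos_of_ne_zero fun e => by simp [e] at hqg
  have hpq' := (Nat.coprime_primes hp.out hq).2 hpq
  have h1 : ¬ p ∣ q ^ b * g₀ := fun h => Nat.not_dvd_of_pos_of_lt h0 (by omega)
    ((hpq'.pow_right b).dvd_of_dvd_mul_left h)
  obtain ⟨P⟩ : Nonempty (Sylow p G) := inferInstance
  have hP := (card_sylow_eq p P (k := 1) (by rw [hN, pow_one, mul_assoc]) h1).1.trans (pow_one p)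
  obtain ⟨t, S, Y, a, δ, h⟩ := exists_pb P hP
  generalize relIndex (G := G) _ _ = e at h
  obtain ⟨θ, hθ⟩ := h.nonempty
  obtain ⟨x, hx⟩ := h.exists_orderOf
  have hG' := commutator_eq_top_of_simple hG
  have h2 : ∀ χ, χ ∈ S ∨ χ ∈ Y → ¬ q ∣ charDegree (χ : G → ℂ) → charDegree (χ : G → ℂ) ∣ g₀ :=
    fun χ hχ h2 => ((hq.coprime_iff_not_dvd.2 h2).symm.pow_right b).dvd_of_dvd_mul_left
      ((hp.out.coprime_iff_not_dvd.2 (h.not_dvd hχ)).symm.dvd_of_dvd_mul_left
        (mul_assoc p _ _ ▸ hN ▸ χ.2.charDegree_dvd_card))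
  have h3 : ∀ χ ∈ S, χ ≠ irrOne G → q ∣ charDegree (χ : G → ℂ) := fun χ hχ h3 => by
    by_contra h4
    have h5 := Nat.le_of_dvd h0 (h2 χ (.inl hχ) h4)
    have h6 := one_lt_charDegree hG' h3
    have := Int.le_of_dvd (by rcases h.signS χ hχ with e | e <;> omega) (h.modS hχ)
    rcases h.signS χ hχ with e | e <;> omega
  have h4 := h.sum_deg' hθ
  have h5 : (q : ℤ) ∣ 1 + δ * charDegree (θ : G → ℂ) := by
    rw [eq_neg_of_add_eq_zero_left ((add_right_comm ..).trans h4), dvd_neg]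
    exact dvd_sum fun χ hχ => (Int.natCast_dvd_natCast.2
      (h3 χ (mem_of_mem_erase hχ) (ne_of_mem_erase hχ))).mul_left _
  have h6 := h2 θ (.inr hθ) fun e => hq.not_dvd_one (Int.natCast_dvd_natCast.1
    ((Int.dvd_add_left ((Int.natCast_dvd_natCast.2 e).mul_left δ)).1 h5))
  have h7 := one_lt_charDegree hG' (h.ne_one hθ)
  have h8 := Nat.le_of_dvd h0 h6
  have hC := h.card_centralizer_of_lt hG' ((IsSimpleGroup.eq_bot_or_eq_top_of_normal _
    inferInstance).resolve_right fun e => not_dvd_card_pPrimeCore p G (by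
      rw [e, card_top]; exact h.dvd)) (.inr hθ) h7 (by omega) hx
  have hf : ∀ g, (θ : G → ℂ) g = (θ : G → ℂ) 1 → g = 1 := fun g hg => mem_bot.1
    (((IsSimpleGroup.eq_bot_or_eq_top_of_normal _ θ.2.isCharacter.charKer_normal).resolve_right
      fun e => h.ne_one hθ (eq_irrOne_of_forall_apply_eq θ fun g =>
        θ.2.isCharacter.mem_charKer_iff.1 (e.ge (mem_top g)))).le (θ.2.isCharacter.mem_charKer_iff.2 hg))
  have hZ : center G = ⊥ := (IsSimpleGroup.eq_bot_or_eq_top_of_normal _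
    inferInstance).resolve_right fun e => hG (center_eq_top_iff.1 e)
  have hn : ∀ R : Subgroup G, Nat.card R = p → ¬ R.Normal := fun R hR hn => by
    rcases IsSimpleGroup.eq_bot_or_eq_top_of_normal R hn with rfl | rfl
    · exact hp.out.ne_one (hR.symm.trans card_bot)
    · exact hG (isCyclic_of_prime_card (card_top.symm.trans hR)).isMulCommutative
  have h9 := h.mul_add_one
  have h10 := h.modY hθ
  have h11 := h.pos
  obtain ⟨k, rfl⟩ := h6
  have h12 : e ≤ e * t := Nat.le_mul_of_pos_right _ h.t_pos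
  have h13 : e ≠ e * t → 2 * e ≤ e * t := fun h13 => mul_comm 2 e ▸ Nat.mul_le_mul_left e (by
    have := h.t_pos
    have : t ≠ 1 := by rintro rfl; simp at h13
    omega)
  have h14 : p ≤ 2 * charDegree (θ : G → ℂ) + 1 → k = 1 := fun _ => by
    rcases k with _ | _ | k
    · simp at h0
    · rfl
    · rw [mul_add, mul_add] at hg; omega
  refine ⟨by omega, ?_⟩
  rcases h.sign with rfl | rfl
  · have h15 : charDegree (θ : G → ℂ) + e = p := by
      by_contra h15
      have := le_of_dvd_of_lt h10 (by omega) (by omega)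
      omega
    obtain rfl := h14 (by have := h13 (by omega); omega)
    have h16 := h.card_eq hx hC
    rw [hN, mul_assoc, mul_right_inj' hp.out.ne_zero, mul_one] at h16
    obtain ⟨c, -, he⟩ := (Nat.dvd_prime_pow hq).1 (Nat.Coprime.dvd_of_dvd_mul_right
      (Nat.coprime_add_self_right.1 (h15.symm ▸ h.coprime)) ⟨_, h16⟩)
    obtain ⟨c, rfl⟩ := Nat.exists_eq_succ_of_ne_zero (n := c) (by
      rintro rfl; rw [pow_zero] at he; omega)
    obtain rfl : q = 2 := (Nat.prime_dvd_prime_iff_eq hq Nat.prime_two).1 (by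
      have h17 : (q : ℤ) ∣ e := Int.natCast_dvd_natCast.2 (he ▸ dvd_pow_self q c.succ_ne_zero)
      have h18 := h5.sub (h17.mul_right (t - 1))
      zify at h9 h15 ⊢
      rwa [show 1 + 1 * (charDegree θ.1 : ℤ) - e * (t - 1) = 2 by linear_combination h15 - h9] at h18)
    rcases c with _ | c
    · obtain ⟨m, F, _, _, h17, h18, ⟨φ⟩⟩ := equiv_sl_of_deg hG' P hP (hn _ hP) hZ hf (by omega)
      obtain ⟨ψ⟩ := PSL2.equiv_sl_psl_of_even (F := F) fun h => by
        rw [Nat.card_eq_fintype_card, h18, Nat.odd_iff] at h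
        omega
      exact ⟨m, .inr ⟨F, _, _, h18, h17, by omega, ⟨φ.trans ψ⟩⟩⟩
    · have h17 : 4 ∣ e * t := Dvd.dvd.mul_right (by omega) t
      obtain ⟨χ, h18, h19⟩ : ∃ χ ∈ S.erase (irrOne G), ¬ 4 ∣ charDegree (χ : G → ℂ) := by
        by_contra! h18
        have := dvd_sum (s := S.erase (irrOne G)) fun χ hχ =>
          (Int.natCast_dvd_natCast.2 (h18 χ hχ)).mul_left (a χ)
        omega
      obtain ⟨h20, h21⟩ := mem_erase.1 h18
      obtain ⟨z, hz⟩ := h3 χ h21 h20
      have h22 := h.dvdS h21 hx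
      rw [h.index_eq hx, ← h16, hz] at h22
      replace h22 := ((Nat.coprime_two_right.2 (Nat.odd_iff.2 (by omega))).pow_right
        b).dvd_of_dvd_mul_left ((dvd_mul_left z 2).trans h22)
      have h23 := Nat.le_of_dvd (by omega) h22
      have h24 := h.modS h21
      have h25 := le_of_dvd_of_lt h24
      have h26 : 2 * z = p + 1 := by rcases h.signS χ h21 with e | e <;> omega
      obtain ⟨w, hw⟩ := h22
      obtain rfl : w = 1 := by
        rcases w with _ | _ | w
        · omega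
        · rfl
        · rw [mul_add, mul_add] at hw; omega
      obtain rfl : t = 2 := Nat.eq_of_mul_eq_mul_left h11 (by omega)
      exact ⟨c + 3, .inl ⟨.inr ⟨by omega, by rw [pow_succ, pow_succ]; omega⟩,
        h.equiv_psl hx hC (h.card_sylow hG hθ hx hC he
        rfl (by omega) (hN.trans (congrArg _ (by omega))) h3) rfl _ (Nat.card_zmod p)⟩⟩
  · have h15 : charDegree (θ : G → ℂ) = e := by
      have := Int.eq_zero_of_abs_lt_dvd h10 (abs_lt.2 ⟨by omega, by omega⟩)
      omega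
    obtain ⟨n, ρ, -, h16⟩ := θ.2
    have h17 : Function.Injective ρ := (injective_iff_map_eq_one ρ).2 fun g hg =>
      hf g (h16 ▸ (character_eq_character_one_iff ρ g).2 hg)
    have h18 := hn (zpowers x) (by rw [Nat.card_zpowers, hx])
    have h19 := le_two_mul_finrank ρ h17 hx h.not_sq h18
    rw [← charDegree_character ρ, h16] at h19
    obtain rfl := h14 h19
    have h20 : 2 * charDegree (θ : G → ℂ) + 1 = p := by have := h13 (by omega); omega
    obtain ⟨φ⟩ := quotient_equiv_psl ρ h17 hx h.not_sq h18 (by rwa [← charDegree_character ρ, h16])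
    replace φ := (QuotientGroup.quotientBot.symm.trans
      (QuotientGroup.quotientMulEquivOfEq hZ.symm)).trans φ
    have h21 := PSL2.card_PSL2_mul (K := ZMod p)
    rw [Nat.card_zmod, Nat.gcd_eq_left (by omega), ← Nat.card_congr φ.toEquiv, hN] at h21
    have h22 : q ^ b = p + 1 := Nat.eq_of_mul_eq_mul_left 
      (Nat.mul_pos hp.out.pos (show 0 < 2 * charDegree θ.1 by omega)) (by
        rw [Nat.sq_sub_sq p 1, show p - 1 = 2 * charDegree θ.1 by omega] at h21
        linear_combination h21)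
    obtain rfl : 2 = q := (Nat.prime_dvd_prime_iff_eq Nat.prime_two hq).1
      (Nat.prime_two.dvd_of_dvd_pow (n := b) (by omega))
    exact ⟨b, .inl ⟨.inl ⟨by omega, h22.symm⟩, ⟨φ⟩⟩⟩

end Cfsg.Lib.Cyc
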