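import Cfsg.Agent.Lib.Cyc.PTwo
import Cfsg.Agent.Lib.Cyc.Half
import Cfsg.Agent.Lib.OddChar.AbCent
import Cfsg.Agent.Lib.Comp.PumpP
import Cfsg.Agent.S0102

/-!
# Faithful irreducible characters of degree `p - 2`: the centre splits off
-/

set_option autoImplicit false

namespace Cfsg.Lib.Cyc

open Cfsg.Lib.Char Cfsg.Lib.Modular Cfsg.Lib.Block Cfsg.Lib.OddChar Subgroup Finset
open scoped ComplexConjugate MatrixGroups commutatorElement

variable {G : Type*} [Group G] [Finite G] {p : ℕ} {g s u y z : G} {θ : IrrCharacter G} {χ : G → ℂ}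

theorem eq_zero_or_norm {F : G → ℂ} {c : ℝ} (hc : 0 < c) (hy : Odd (orderOf y))
    (h : ∀ n : ℕ, F (y ^ 2 ^ n) ^ 2 = c * F ((y ^ 2 ^ n) ^ 2)) : F y = 0 ∨ ‖F y‖ = c := by
  have h1 : ∀ n : ℕ, ‖F y‖ ^ 2 ^ n * c = c ^ 2 ^ n * ‖F (y ^ 2 ^ n)‖ := fun n => by
    induction n with
    | zero => simp [mul_comm]
    | succ n ih =>
      have := congrArg norm (h n)
      rw [norm_pow, norm_mul, Complex.norm_real, Real.norm_of_nonneg hc.le, ← pow_mul] at this
      refine mul_left_cancel₀ hc.ne' ?_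
      rw [pow_succ, pow_mul, pow_mul]
      linear_combination (‖F y‖ ^ 2 ^ n * c + c ^ 2 ^ n * ‖F (y ^ 2 ^ n)‖) * ih +
        (c ^ 2 ^ n) ^ 2 * this
  have h2 := h1 (orderOf y).totient
  obtain ⟨m, hm⟩ : ∃ m, 2 ^ (orderOf y).totient = m + 2 := Nat.exists_eq_add_of_le'
    (Nat.le_self_pow (Nat.totient_pos.2 (orderOf_pos y)).ne' 2)
  rw [(pow_eq_pow_iff_modEq (m := 1)).2 (Nat.ModEq.pow_totient (Nat.coprime_two_left.2 hy)), hm,
    pow_one] at h2
  refine or_iff_not_imp_left.2 fun h3 => (pow_left_inj₀ (norm_nonneg _) hc.le m.succ_ne_zero).1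
    (mul_left_cancel₀ (mul_ne_zero (norm_ne_zero_iff.2 h3) hc.ne') ?_)
  rw [Nat.succ_eq_add_one]
  linear_combination h2

theorem three_term (hχ : IsCharacter G χ) (hs : s ^ 2 = 1) (hc : Commute s y)
    (hy : Odd (orderOf y)) {a : ℂ} (ha : ‖a‖ = 1) : 0 ≤ (3 * (χ 1 - χ s) +
      4 * a * (χ y - χ (s * y)) + 2 * a ^ 2 * (χ (y ^ 2) - χ (s * y ^ 2))).re := by
  obtain ⟨n, ε, h1, h2, h3⟩ := hχ.exists_eigenvalues (s * y)
  obtain ⟨m, hm⟩ := hy
  have h4 : (s * y) ^ orderOf y = s := by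
    rw [hc.mul_pow, pow_orderOf_eq_one, hm, pow_succ, pow_mul, hs, one_pow, one_mul, mul_one]
  have h5 : (s * y) ^ (orderOf y + 1) = y := by rw [pow_succ, h4, ← mul_assoc, ← sq, hs, one_mul]
  have h6 : ∀ i j, χ (s ^ i * y ^ j) = ∑ l, (ε l ^ orderOf y) ^ i * (ε l ^ (orderOf y + 1)) ^ j :=
    fun i j => by simp only [← pow_mul, ← pow_add, ← h3]; rw [pow_add, pow_mul, pow_mul, h4, h5]
  have h7 := congrArg Complex.re (show (3 * (χ (s ^ 0 * y ^ 0) - χ (s ^ 1 * y ^ 0)) +
      4 * a * (χ (s ^ 0 * y ^ 1) - χ (s ^ 1 * y ^ 1)) +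
      2 * a ^ 2 * (χ (s ^ 0 * y ^ 2) - χ (s ^ 1 * y ^ 2))) = ∑ l, (1 - ε l ^ orderOf y) *
        (3 + 4 * (a * ε l ^ (orderOf y + 1)) + 2 * (a * ε l ^ (orderOf y + 1)) ^ 2) by
    simp only [h6, ← sum_sub_distrib, mul_sum, ← sum_add_distrib]
    exact sum_congr rfl fun l _ => by ring)
  simp only [pow_zero, pow_one, one_mul, mul_one] at h7
  rw [h7, Complex.re_sum]
  refine sum_nonneg fun l _ => ?_
  have h8 : (ε l ^ orderOf y) ^ 2 = 1 := by
    obtain ⟨k, hk⟩ := orderOf_dvd_of_pow_eq_one (show (s * y) ^ (orderOf y * 2) = 1 by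
      rw [pow_mul, h4, hs])
    rw [← pow_mul, hk, pow_mul, h2, one_pow]
  have h9 : ‖a * ε l ^ (orderOf y + 1)‖ = 1 := by
    rw [norm_mul, norm_pow, Complex.norm_eq_one_of_pow_eq_one (h2 l) (orderOf_pos _).ne', ha]
    simp
  generalize a * ε l ^ (orderOf y + 1) = w at h9
  rw [← sq_eq_sq₀ (norm_nonneg _) zero_le_one, Complex.sq_norm, Complex.normSq_apply] at h9
  rcases sq_eq_one_iff.1 h8 with e | e <;> rw [e]
  · simp
  · simp [sq]
    nlinarith [sq_nonneg (2 * w.re + 1)]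

theorem pow_charDegree_eq_one (hG : commutator G = ⊤)
    (hf : ∀ g, (θ : G → ℂ) g = (θ : G → ℂ) 1 → g = 1) (hz : z ∈ center G) :
    z ^ charDegree (θ : G → ℂ) = 1 := by
  obtain ⟨ω, h1, h2⟩ := exists_scalar_of_mem_center θ.2 hz
  obtain ⟨n, ρ, -, h3⟩ := θ.2
  rw [← h3] at h2 hf ⊢
  obtain ⟨η, h4⟩ := (norm_character_eq_iff ρ z).1 (by
    rw [← mul_one z, h2, norm_mul, Complex.norm_eq_one_of_pow_eq_one h1 (orderOf_pos _).ne']
    simp)
  have h5 := congrArg Units.val ((hG ▸ Abelianization.commutator_subset_ker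
    (LinearMap.det.comp ρ).toHomUnits) (mem_top z))
  rw [MonoidHom.coe_toHomUnits, MonoidHom.comp_apply, h4, LinearMap.det_smul, LinearMap.det_id,
    mul_one] at h5
  refine hf _ ((character_eq_character_one_iff ρ _).2 ?_)
  rw [map_pow, h4, smul_pow, charDegree_character, h5]
  simp [← Module.End.one_eq_id]

theorem exists_pow_two (hp : p.Prime) : ∃ k : ℕ, k.Coprime (Nat.card G) ∧
    (∀ u : G, u ^ (4 * p) = 1 → u ^ k = u) ∧
      ∀ y : G, Odd (orderOf y) → ¬ p ∣ orderOf y → y ^ k = y ^ 2 := by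
  obtain ⟨i, n, h3, h4⟩ := Nat.exists_eq_pow_mul_and_not_dvd (Nat.card_pos (α := G)).ne' 2 (by simp)
  obtain ⟨j, m, h5, rfl⟩ := Nat.exists_eq_pow_mul_and_not_dvd (n := n) (fun e => by simp [e] at h3)
    p hp.ne_one
  have h6 : Nat.Coprime 2 m := Nat.prime_two.coprime_iff_not_dvd.2 fun e => h3 (e.mul_left _)
  obtain ⟨k, h7, h8⟩ := Nat.chineseRemainder (n := 2 ^ i * p ^ j * (2 ^ 2 * p)) (m := m)
    (((h6.pow_left _).mul_left ((hp.coprime_iff_not_dvd.2 h5).pow_left _)).mul_left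
      ((h6.pow_left _).mul_left (hp.coprime_iff_not_dvd.2 h5))) 1 2
  refine ⟨k, ?_, fun u hu => ?_, fun y h9 h10 => pow_eq_pow_iff_modEq.2 (h8.of_dvd ?_)⟩
  · rw [h4, ← mul_assoc]
    exact Nat.Coprime.mul_right (by rw [Nat.Coprime, (h7.of_mul_right _).gcd_eq, Nat.gcd_one_left])
      (by rwa [Nat.Coprime, h8.gcd_eq])
  · exact (pow_eq_pow_iff_modEq.2 ((h7.of_mul_left _).of_dvd
      (orderOf_dvd_of_pow_eq_one hu))).trans (pow_one u)
  · exact ((hp.coprime_iff_not_dvd.2 h10).symm.pow_right j).dvd_of_dvd_mul_left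
      (((Nat.coprime_two_right.2 h9).pow_right i).dvd_of_dvd_mul_left (h4 ▸ orderOf_dvd_natCard y))

variable [hp : Fact p.Prime] (hG : commutator G = ⊤) (P : Sylow p G) (hP : Nat.card P = p)
  (hn : ¬ (P : Subgroup G).Normal) (hf : ∀ g, (θ : G → ℂ) g = (θ : G → ℂ) 1 → g = 1)
  (hd : charDegree (θ : G → ℂ) + 2 = p) (h5 : 5 < p)
include hG hf hd h5

theorem odd_of_mem_center (hz : z ∈ center G) : Odd (orderOf z) ∧ ¬ p ∣ orderOf z := by
  have h1 := orderOf_dvd_of_pow_eq_one (pow_charDegree_eq_one hG hf hz)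
  have h2 := hp.out.eq_two_or_odd
  exact ⟨Odd.of_dvd_nat (Nat.odd_iff.2 (by omega)) h1, fun e =>
    Nat.not_dvd_of_pos_of_lt (by omega) (by omega) (e.trans h1)⟩

include P hP hn

theorem odd_of_dvd (hg : p ∣ orderOf g) : Odd (orderOf g) := by
  obtain ⟨-, t, Y, hF, hθ⟩ := exists_fam_two P hP hn hf hd
  obtain ⟨z, hz, x, hx, -, -, h1⟩ := hF.exists_isConj hθ hf hP hg
  exact Small.orderOf_eq_of_isConj h1 ▸ Odd.of_dvd_nat ((odd_of_mem_center hG hf hd h5 hz).1.mul
    (Odd.of_dvd_nat (hp.out.odd_of_ne_two (by omega)) (hP ▸ P.1.orderOf_dvd_natCard hx)))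
    (Commute.orderOf_mul_dvd_mul_orderOf (mem_center_iff.1 hz x).symm)

theorem alt_mul (hu : u ^ 4 = 1) (hy : Odd (orderOf y)) (hy' : ¬ p ∣ orderOf y) (hc : Commute u y) :
    (θ : G → ℂ) (u * y) ^ 2 - (θ : G → ℂ) (u ^ 2 * y ^ 2) = (p - 3) * (θ : G → ℂ) (u * y ^ 2) := by
  obtain ⟨he, t, Y, hF, hθ⟩ := exists_fam_two P hP hn hf hd
  obtain ⟨k, h1, h2, h3⟩ := exists_pow_two (G := G) hp.out
  have h4 := hF.alt hθ hf hP (fun y hy => isConj_inv_of_even hP hy (he ▸ even_two)) h1
    (fun x hx => h2 x (orderOf_dvd_iff_pow_eq_one.1 ((hP ▸ P.1.orderOf_dvd_natCard hx).mul_left 4)))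
    (fun z hz => h3 z (odd_of_mem_center hG hf hd h5 hz).1 (odd_of_mem_center hG hf hd h5 hz).2)
    (g := u * y) fun e => by
      rcases (Nat.Prime.dvd_mul hp.out).1 (e.trans hc.orderOf_mul_dvd_mul_orderOf) with e | e
      · exact Nat.not_dvd_of_pos_of_lt four_pos (by omega) (e.trans (orderOf_dvd_of_pow_eq_one hu))
      · exact hy' e
  rwa [← sq (u * y), hc.mul_pow, hc.mul_pow, h2 u (by rw [pow_mul, hu, one_pow]), h3 y hy hy'] at h4

theorem apply_inv_eq (hs : orderOf s = 2) : (θ : G → ℂ) s = -1 := by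
  have h1 := alt_mul hG P hP hn hf hd h5 (u := s) (y := 1) (by
    rw [← orderOf_dvd_iff_pow_eq_one, hs]; decide) (by simp) (not_dvd_orderOf_one hp.out)
    (Commute.one_right s)
  rw [one_pow, mul_one, mul_one, show s ^ 2 = 1 from hs ▸ pow_orderOf_eq_one s] at h1
  have h2 : (θ : G → ℂ) 1 = p - 2 := by rw [θ.2.apply_one_eq, ← hd]; simp
  refine (eq_neg_of_add_eq_zero_left ((mul_eq_zero.1 (show ((θ : G → ℂ) s + 1) *
    ((θ : G → ℂ) s - (θ : G → ℂ) 1) = 0 by rw [h2] at h1 ⊢; linear_combination h1)).resolve_right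
      fun e => ?_))
  rw [hf s (sub_eq_zero.1 e), orderOf_one] at hs
  omega

theorem sq_eq_one_of_pow_four (hu : u ^ 4 = 1) : u ^ 2 = 1 := by
  by_contra h
  have h1 := alt_mul hG P hP hn hf hd h5 hu (y := 1) (by simp) (not_dvd_orderOf_one hp.out)
    (Commute.one_right u)
  rw [one_pow, mul_one, mul_one, apply_inv_eq hG P hP hn hf hd h5 (s := u ^ 2)
    (orderOf_eq_prime (by rw [← pow_mul, hu]) h)] at h1
  have h2 : (5 : ℝ) < p := by exact_mod_cast h5
  have h3 : ((θ : G → ℂ) u).im = 0 := by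
    have h3 := congrArg Complex.re h1
    have h4 := congrArg Complex.im h1
    simp [sq] at h3 h4
    by_contra e
    have h5 : 2 * ((θ : G → ℂ) u).re = p - 3 := mul_right_cancel₀ e (by linarith)
    nlinarith [mul_self_nonneg ((θ : G → ℂ) u).im]
  obtain ⟨n, h4⟩ := θ.2.isGeneralizedCharacter.exists_int_of_forall_pow (g := u) fun k hk => by
    rw [show orderOf u = 2 ^ 2 from orderOf_eq_prime_pow h hu,
      Nat.coprime_pow_right_iff two_pos, Nat.coprime_two_right, Nat.odd_iff] at hk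
    rw [pow_eq_pow_mod k hu]
    obtain e | e : k % 4 = 1 ∨ k % 4 = 3 := by omega
    · rw [e, pow_one]
    · rw [e, eq_inv_of_mul_eq_one_left (show u ^ 3 * u = 1 from pow_succ u 3 ▸ hu), θ.2.apply_inv,
        Complex.conj_eq_iff_im.2 h3]
  rw [h4] at h1
  have h6 : n * (p - 3 - n) = 1 := by
    have : n ^ 2 - -1 = (p - 3) * n := by exact_mod_cast h1
    linear_combination -this
  rcases Int.eq_one_or_neg_one_of_mul_eq_one' h6 with e | e <;> have := hp.out.eq_two_or_odd <;> omega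

theorem apply_eq_zero (hy : Odd (orderOf y)) (hy' : ¬ p ∣ orderOf y) (h : y ∉ center G) :
    (θ : G → ℂ) y = 0 := by
  have h1 : (θ : G → ℂ) 1 = ((p - 2 : ℝ) : ℂ) := by rw [θ.2.apply_one_eq, ← hd]; simp
  have h2 : (0 : ℝ) < p - 2 := sub_pos.2 (by exact_mod_cast (by omega : 2 < p))
  refine (eq_zero_or_norm h2 hy fun n => ?_).resolve_right fun e => h
    (mem_center_of_charCenter θ.2.isCharacter hf (θ.2.isCharacter.mem_charCenter_iff.2
      (by rw [e, h1, Complex.norm_real, Real.norm_of_nonneg h2.le])))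
  have := alt_mul hG P hP hn hf hd h5 (one_pow 4) (hy.of_dvd_nat (orderOf_pow_dvd (2 ^ n)))
    (fun e => hy' (e.trans (orderOf_pow_dvd _))) (Commute.one_left _)
  rw [one_pow, one_mul, one_mul] at this
  push_cast
  linear_combination this

theorem mem_center_of_commute (hs : orderOf s = 2) (hy : Odd (orderOf y)) (hc : Commute s y) :
    y ∈ center G := by
  by_contra h
  have h0 : s ^ 2 = 1 := hs ▸ pow_orderOf_eq_one s
  obtain ⟨r, hr, h1⟩ := Nat.exists_prime_and_dvd (mt orderOf_eq_one_iff.1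
    (mt (QuotientGroup.eq_one_iff y).1 h))
  have h2 : pPart r y ∉ center G := fun e => (pPart_ne_one_iff hr).2 h1
    ((map_pPart hr (QuotientGroup.mk' _) y).symm.trans ((QuotientGroup.eq_one_iff _).2 e))
  have h3 := pElt_pPart hr y
  replace hc := commute_pPart_right hc r
  replace hy := hy.of_dvd_nat (orderOf_dvd_of_mem_zpowers (pPart_mem_zpowers r y))
  generalize pPart r y = y at h2 h3 hc hy
  have h4 : ¬ p ∣ orderOf y := fun e => by
    have h4 := hc.orderOf_mul_eq_mul_orderOf_of_coprime (hs ▸ Nat.coprime_two_left.2 hy)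
    have := odd_of_dvd hG P hP hn hf hd h5 (h4 ▸ e.mul_left _)
    simp [h4, hs, ← Nat.not_even_iff_odd] at this
  have h6 : ∀ n, y ^ 2 ^ n ∉ center G := fun n e => h2 (zpowers_le.2 e
    (mem_zpowers_pow_iff.2 ((Nat.coprime_two_left.2 hy).pow_left n)))
  have h7 : ∀ n, (θ : G → ℂ) (y ^ 2 ^ n) = 0 := fun n => apply_eq_zero hG P hP hn hf hd h5
    (hy.of_dvd_nat (orderOf_pow_dvd _)) (fun e => h4 (e.trans (orderOf_pow_dvd _))) (h6 n)
  have h8 : ∀ n, (θ : G → ℂ) (s * y ^ 2 ^ n) ^ 2 =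
      ((p - 3 : ℝ) : ℂ) * (θ : G → ℂ) (s * (y ^ 2 ^ n) ^ 2) := fun n => by
    have := alt_mul hG P hP hn hf hd h5 (u := s) (by rw [show 4 = 2 * 2 from rfl, pow_mul, h0]; simp)
      (hy.of_dvd_nat (orderOf_pow_dvd (2 ^ n))) (fun e => h4 (e.trans (orderOf_pow_dvd _)))
      (hc.pow_right _)
    rw [h0, one_mul, show (θ : G → ℂ) ((y ^ 2 ^ n) ^ 2) = 0 by rw [← pow_mul, ← pow_succ, h7],
      sub_zero] at this
    exact_mod_cast this
  have h9 : (5 : ℝ) < p := by exact_mod_cast h5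
  have h10 := apply_inv_eq hG P hP hn hf hd h5 hs
  rcases eq_zero_or_norm (F := fun g => (θ : G → ℂ) (s * g)) (by linarith) hy h8 with e | e
  · obtain ⟨M, hM⟩ := exists_isPModular hr
    have := Modular.mk hM
    have := Fact.mk hr
    have h11 := red_char_mul (M := M) θ.2.isCharacter h3 hc.symm
    rw [← hc.eq, e, h10, ← Int.cast_zero, ← Int.cast_one, ← Int.cast_neg, red_intCast,
      red_intCast] at h11
    simp at h11
  · have h11 : ((p - 3 : ℝ) : ℂ) ≠ 0 := Complex.ofReal_ne_zero.2 (by linarith)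
    have h12 := h8 0
    have h13 := h7 0
    have h14 := h7 1
    simp only [pow_zero, pow_one] at h12 h13 h14
    have h15 : (θ : G → ℂ) (s * y) ≠ 0 := norm_ne_zero_iff.1 (e.trans_ne (by linarith))
    have h16 := three_term θ.2.isCharacter h0 hc hy (a := (p - 3 : ℝ) / (θ : G → ℂ) (s * y)) (by
      rw [norm_div, e, Complex.norm_real, Real.norm_of_nonneg (by linarith), div_self (by linarith)])
    rw [h13, h14, h10, θ.2.apply_one_eq, eq_div_of_mul_eq h11 ((mul_comm ..).trans h12.symm),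
      show ∀ a b c : ℂ, b ≠ 0 → c ≠ 0 → a + 4 * (c / b) * (0 - b) + 2 * (c / b) ^ 2 * (0 - b ^ 2 / c) =
        a - 6 * c from fun a b c hb hc => by field_simp; ring] at h16
    · have h17 : (charDegree (θ : G → ℂ) + 2 : ℝ) = p := by exact_mod_cast hd
      have h18 : (7 : ℝ) ≤ p := by
        have := hp.out.eq_two_or_odd
        exact_mod_cast (by omega : 7 ≤ p)
      simp at h16
      linarith
    exacts [h15, h11]

theorem center_eq_bot_of_deg : center G = ⊥ := by
  obtain ⟨T⟩ : Nonempty (Sylow 2 G) := inferInstance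
  obtain ⟨he, t, Y, hF, hθ⟩ := exists_fam_two P hP hn hf hd
  have h1 : 2 ∣ Nat.card G := he ▸ (relIndex_dvd_card _ _).trans (card_subgroup_dvd_card _)
  have h2 : ∀ s a, orderOf s = 2 → Commute s a → ∃ u z, u ^ 2 = 1 ∧ z ∈ center G ∧ u * z = a :=
    fun s a hs ha => by
      refine ⟨_, _, ?_, mem_center_of_commute hG P hP hn hf hd h5 hs (Nat.odd_iff.2 ((Nat.two_dvd_ne_zero.1
        (not_dvd_orderOf_regPart Nat.prime_two a)))) (commute_regPart_right ha 2), pPart_mul_regPart 2 a⟩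
      obtain ⟨k, hk⟩ := pElt_pPart Nat.prime_two a
      replace hk : pPart 2 a ^ 2 ^ k = 1 := hk ▸ pow_orderOf_eq_one _
      generalize pPart 2 a = u at hk
      induction k with
      | zero => rw [pow_zero, pow_one] at hk; rw [hk, one_pow]
      | succ k ih =>
        rcases k with _ | k
        · exact hk
        · exact ih (by
            rw [pow_succ, pow_mul]
            exact sq_eq_one_of_pow_four hG P hP hn hf hd h5 (by rw [← hk, ← pow_mul]; ring_nf))
  have h3 : AbCent T := by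
    refine ⟨fun h => Comp.odd_of_perf_of_cyclic hG T h h1, fun h => ?_, fun s a b hs ha hb => ?_⟩
    · obtain ⟨s, h3⟩ := exists_prime_orderOf_dvd_card' 2 (T.dvd_card_of_dvd_card h1)
      replace h3 : orderOf (s : G) = 2 := (orderOf_coe s).trans h3
      have h4 := (odd_of_mem_center hG hf hd h5 (hF.mem_center hθ hf (le_centralizer_of_small P hP
        θ.2.isCharacter hf hd.le (fun e => by
          obtain ⟨k, hk⟩ := T.2.exists_card_eq
          have := Nat.le_of_dvd two_pos (hp.out.dvd_of_dvd_pow (hk ▸ e))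
          omega) s.2) fun e =>
          Nat.not_dvd_of_pos_of_lt two_pos (by omega) (e.trans h3.dvd))).1
      simp [h3, ← Nat.not_even_iff_odd] at h4
    · obtain ⟨u, z, h3, hz, rfl⟩ := h2 s a hs ha.symm
      obtain ⟨v, w, h4, hw, rfl⟩ := h2 s b hs hb.symm
      have h6 : ∀ u z, z ∈ center G → u * z * s = s * (u * z) → Commute s u := fun u z hz e =>
        mul_right_cancel (b := z) (by rw [mul_assoc s, ← e, mul_assoc, mul_assoc, mem_center_iff.1 hz])
      obtain ⟨u', z', h7, hz', h8⟩ := h2 s _ hs ((h6 u z hz ha).mul_right (h6 v w hw hb))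
      have h9 : (u * v) ^ 2 = z' ^ 2 := by
        rw [← h8, (show Commute u' z' from mem_center_iff.1 hz' u').mul_pow, h7, one_mul]
      have h10 : (u * v) ^ 4 = 1 := by
        have := mem_center_iff.1 (h9 ▸ pow_mem hz' 2) u
        rw [sq] at h3 h4
        calc (u * v) ^ 4 = u * v * (u * v) * u * (v * u * v) := by simp only [pow_succ]; group
          _ = u * (u * v * (u * v)) * (v * u * v) := by rw [← sq, this]
          _ = u * u * v * (u * (v * v) * u) * v := by group
          _ = 1 := by rw [h4, h3, mul_one, h3, mul_one, one_mul, h4]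
      have h11 : Commute u v := by
        have := sq_eq_one_of_pow_four hG P hP hn hf hd h5 h10
        rw [sq] at h3 h4 this
        calc u * v = u * (u * v * (u * v)) * v := by rw [this, mul_one]
          _ = u * u * v * u * (v * v) := by group
          _ = v * u := by rw [h3, h4, one_mul, mul_one]
      exact ((h11.mul_right (mem_center_iff.1 hw u)).mul_left
        (mem_center_iff.1 hz _).symm).eq
  obtain ⟨n, f, h4, -, h6, h7, h8⟩ := h3.exists_hom
  have h9 : commutator PSL(2, GaloisField 2 n) = ⊤ := by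
    rw [← f.range_eq_top.2 h6, MonoidHom.range_eq_map, ← hG, map_commutator_eq, f.range_eq_top.2 h6]
    rfl
  have h10 : f.ker = ⊥ := card_eq_one.1 (Nat.eq_one_iff_not_exists_prime_dvd.2 fun r hr e => by
    have := Fact.mk hr
    refine Agent.S0102.result h9 (fun R => psl_even_isCyclic ?_) f h6 h7 hG e
    obtain ⟨k, hk⟩ := R.2.exists_card_eq
    exact hk ▸ (h8.of_dvd_nat e).pow)
  have := PSL2.isSimpleGroup_psl (F := GaloisField 2 n) (by
    rw [GaloisField.card 2 n (by omega)]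
    exact Nat.pow_le_pow_right two_pos h4)
  have := (MulEquiv.ofBijective f ⟨f.ker_eq_bot_iff.1 h10, h6⟩).isSimpleGroup
  exact (this.eq_bot_or_eq_top_of_normal _ inferInstance).resolve_right fun e =>
    hn (normal_of_le_center' (e ▸ le_top))

omit hG in
/-- **Feit**: groups with a faithful irreducible character of degree `p - 2`. -/
theorem equiv_sl_prod : ∃ (a : ℕ) (F : Type) (_ : Field F) (_ : Fintype F), p = 2 ^ a + 1 ∧
    Fintype.card F = 2 ^ a ∧ Nonempty (G ≃* SL(2, F) × center G) := by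
  obtain ⟨he, t, Y, hF, hθ⟩ := exists_fam_two P hP hn hf hd
  have h1 : (P : Subgroup G) ≤ commutator G := by
    have : Fact (Nat.card (P : Subgroup G)).Prime := ⟨hP.symm ▸ hp.out⟩
    rcases (commutator G).subgroupOf (P : Subgroup G) |>.eq_bot_or_eq_top_of_prime_card with e | e
    · refine absurd (relIndex_eq_one.2 fun g hg => mem_centralizer_iff.2 fun y hy => ?_)
        (he.trans_ne (by decide))
      have h1 : y * (g * y * g⁻¹)⁻¹ ∈ (P : Subgroup G) :=
        mul_mem hy (inv_mem ((mem_normalizer_iff.1 hg y).1 hy))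
      have := congrArg Subtype.val (mem_bot.1 (e.le ((mem_subgroupOf (h := ⟨_, h1⟩)).2 (by
        simpa [commutatorElement_def, mul_assoc, _root_.commutator_def] using
          commutator_mem_commutator (mem_top y) (mem_top g)))))
      rw [← mul_inv_eq_iff_eq_mul.1 (mul_inv_eq_one.1 this).symm]
    · exact subgroupOf_eq_top.1 e
  have h11 : Nat.card (P.subtype h1) = p :=
    (Nat.card_congr (subgroupOfEquivOfLe h1).toEquiv).trans hP
  have h12 : ¬ ((P.subtype h1 : Sylow p _) : Subgroup (commutator G)).Normal := fun h => hn (by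
    have := Sylow.characteristic_of_normal _ h
    have := ConjAct.normal_of_characteristic_of_normal (H := commutator G) (K := P.subtype h1)
    rwa [Sylow.coe_subtype, map_subgroupOf_eq_of_le h1] at this)
  have h2 : ∀ g : G, ∃ a ∈ commutator G, ∃ z ∈ center G, a * z = g := fun g => by
    have h2 : centralizer ((P : Subgroup G) : Set G) ≤ commutator G ⊔ center G := fun c hc => by
      obtain ⟨z, hz, x, hx, -, rfl⟩ := hF.exists_mul hθ hf hc
      exact mul_mem (mem_sup_right hz) (mem_sup_left (h1 hx))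
    obtain ⟨n, h3, h4⟩ := SetLike.not_le_iff_exists.1 fun h => h12 (normal_of_le_center'
      (le_center_of_small (P.subtype h1) h11 (θ.2.isCharacter.comp (commutator G).subtype)
        (fun g hg => Subtype.ext (hf g hg)) ((congrArg (· + 2) (charDegree_congr rfl)).trans hd).le h))
    replace h3 : (n : G) ∈ normalizer ((P : Subgroup G) : Set G) := by
      rwa [Sylow.coe_subtype, ← subgroupOf_normalizer_eq h1, mem_subgroupOf] at h3
    replace h4 : (n : G) ∉ centralizer ((P : Subgroup G) : Set G) := fun h => h4 fun y hy =>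
      Subtype.ext (h y hy)
    refine mem_sup_of_normal_left.1 ((P.normalizer_sup_eq_top' h1).ge.trans
      (sup_le (fun b hb => ?_) le_sup_left) (mem_top g))
    by_cases h : b ∈ centralizer ((P : Subgroup G) : Set G)
    · exact h2 h
    · exact (mul_mem_cancel_left (mem_sup_left n.2)).1 (h2 ((mul_mem_iff_of_index_two he
        (a := ⟨n, h3⟩) (b := ⟨b, hb⟩)).2 (iff_of_false h4 h)))
  have h3 : ∀ (a : commutator G) (z : center G), Commute ((commutator G).subtype a)
      ((center G).subtype z) := fun a z => mem_center_iff.1 z.2 a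
  have h4 : Function.Surjective ((commutator G).subtype.noncommCoprod (center G).subtype h3) :=
    fun g => by
      obtain ⟨a, ha, z, hz, rfl⟩ := h2 g
      exact ⟨(⟨a, ha⟩, ⟨z, hz⟩), rfl⟩
  obtain ⟨φ, ψ, h6, h7, h8⟩ := (θ.2.comp_surjective _ h4).exists_eq_prod
  have h9 : ∀ a : commutator G, φ a = (θ : G → ℂ) a := fun a => by
    simpa [h7.apply_one_of_comm] using (congrFun h8 (a, 1)).symm
  have h10 : commutator (commutator G) = ⊤ := by
    refine top_le_iff.1 (map_subtype_le_map_subtype.1 ((map_subtype_le _).trans ?_))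
    rw [map_subtype_commutator]
    refine commutator_le.2 fun g _ g' _ => ?_
    obtain ⟨a, ha, z, hz, rfl⟩ := h2 g
    obtain ⟨b, hb, w, hw, rfl⟩ := h2 g'
    convert commutator_mem_commutator ha hb using 1
    calc ⁅a * z, b * w⁆ = a * (z * b) * (w * z⁻¹ * a⁻¹ * w⁻¹) * b⁻¹ := by
          simp only [commutatorElement_def]; group
      _ = ⁅a, b⁆ := by
          rw [← mem_center_iff.1 hz, mul_assoc w, ← mem_center_iff.1 hw, commutatorElement_def]
          group
  have h13 : ∀ g, φ g = φ 1 → g = 1 := fun g hg => Subtype.ext (hf g (by rwa [h9, h9] at hg))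
  have h14 : charDegree φ + 2 = p := (congrArg (· + 2) (charDegree_congr (h9 1))).trans hd
  have h15 := center_eq_bot_of_deg (θ := ⟨φ, h6⟩) h10 _ h11 h12 h13 h14 h5
  obtain ⟨a, F, _, _, h16, h17, ⟨e⟩⟩ := equiv_sl_of_deg (θ := ⟨φ, h6⟩) h10 _ h11 h12 h15 h13 h14
  refine ⟨a, F, _, _, h16, h17, ⟨(MulEquiv.ofBijective _ ⟨(MonoidHom.noncommCoprod_injective ..).2
    ⟨subtype_injective _, subtype_injective _, ?_⟩, h4⟩).symm.trans (e.prodCongr (.refl _))⟩⟩
  rw [range_subtype, range_subtype, disjoint_def]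
  exact fun {z} hz hz' => congrArg Subtype.val (mem_bot.1 (h15.le (show (⟨z, hz⟩ : commutator G) ∈ _ from
    mem_center_iff.2 fun g => Subtype.ext (mem_center_iff.1 hz' g))))

end Cfsg.Lib.Cyc
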