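import Cfsg.Agent.Lib.Cyc.Half
import Cfsg.Agent.Lib.PGroup.CyclicMax

/-!
# Faithful complex representations of degree `(p - 1) / 2`
-/

set_option autoImplicit false

namespace Cfsg.Lib.Cyc

open Subgroup Finset Module Representation Cfsg.Lib.Char Cfsg.Lib.PSL2
open scoped MatrixGroups

variable {G V : Type*} [Group G] [AddCommGroup V] [Module ℂ V] {x : G} {p : ℕ} [hp : Fact p.Prime]

theorem commute_of_commute {ι : Type*} (b : Basis ι ℂ V) {T S S' : End ℂ V} {μ : ι → ℂ}
    (hμ : Function.Injective μ) (hT : ∀ i, T (b i) = μ i • b i) (h : Commute S T)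
    (h' : Commute S' T) : Commute S S' := by
  classical
  have h1 : ∀ i v, b.repr (T v) i = μ i * b.repr v i := fun i v => LinearMap.congr_fun
    (b.ext (f₁ := b.coord i ∘ₗ T) (f₂ := μ i • b.coord i) fun j => by
      rcases eq_or_ne j i with rfl | e
      · simp [hT]
      · simp [hT, Finsupp.single_eq_of_ne e.symm]) v
  have h2 : ∀ S, Commute S T → ∀ j, S (b j) = b.repr (S (b j)) j • b j := fun S h j =>
    b.ext_elem fun i => by
      rcases eq_or_ne j i with rfl | e
      · simp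
      · have := h1 i (S (b j))
        rw [← End.mul_apply, ← h.eq, End.mul_apply, hT, map_smul, map_smul, Finsupp.smul_apply,
          smul_eq_mul, ← sub_eq_zero, ← sub_mul] at this
        simp [Finsupp.single_eq_of_ne e.symm,
          (mul_eq_zero.1 this).resolve_left (sub_ne_zero.2 (hμ.ne e))]
  refine b.ext fun j => ?_
  rw [End.mul_apply, End.mul_apply, h2 S h, h2 S' h', map_smul, map_smul, h2 S h, h2 S' h']
  simp only [map_smul, b.repr_self, Finsupp.smul_apply, Finsupp.single_eq_same, smul_eq_mul,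
    one_mul, smul_smul, mul_comm]

omit hp in
theorem smul_eq_iff {P : Sylow p G} (hP : P = zpowers x) {g : G} :
    g • P = P ↔ g ∈ normalizer (zpowers x : Set G) := hP ▸ Sylow.smul_eq_iff_mem_normalizer

variable [Finite G] [FiniteDimensional ℂ V] (ρ : Representation ℂ G V)
  (hρ : Function.Injective ρ) (hx : orderOf x = p) (hsq : ¬ p ^ 2 ∣ Nat.card G)
  (hn : ¬ (zpowers x).Normal)
include hρ hx hsq hn

theorem half_aux (hd : 2 * finrank ℂ V + 1 = p) :
    (∀ g, ∃ a ∈ normalClosure {x}, ∃ c, Commute c x ∧ a * c = g) ∧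
      ∀ c c', Commute c x → Commute c' x → Commute c c' := by
  classical
  obtain ⟨J, h1, h2⟩ := exists_squares (p := p)
  have h0 : ρ x ≠ 1 := fun e => hp.out.ne_one (by rw [← hx, hρ (e.trans ρ.map_one.symm), orderOf_one])
  have h3 : ∀ j ∈ J, ∃ g ∈ normalClosure {x}, g * x * g⁻¹ = x ^ j.val := fun j hj => by
    obtain ⟨a, ha, rfl⟩ := h2 j hj
    exact exists_conj_sq ρ hρ hx hsq hn (by omega) ha
  refine ⟨fun g => ?_, fun c c' hc hc' => hρ ?_⟩
  · obtain ⟨a, ha, b, hb, rfl⟩ := exists_mul_normalizer hx hsq g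
    obtain ⟨k, hk⟩ := exists_conj_eq_pow hb
    rw [← pow_mod_orderOf, hx, ← ZMod.val_natCast] at hk
    have h4 : (k : ZMod p) ∈ J := by
      by_contra h
      obtain ⟨v, -, h5, -⟩ := exists_linearIndependent ρ hx h0 (insert (k : ZMod p) J) fun j hj => by
        rcases mem_insert.1 hj with rfl | hj
        exacts [⟨b, hk⟩, (h3 j hj).imp fun _ => And.right]
      have := h5.fintype_card_le_finrank
      rw [Fintype.card_coe, card_insert_of_notMem h] at this
      omega
    obtain ⟨a', ha', h5⟩ := h3 _ h4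
    refine ⟨a * a', mul_mem ha ha', a'⁻¹ * b, ?_, by group⟩
    rw [Commute, SemiconjBy, mul_assoc, mul_inv_eq_iff_eq_mul.1 hk, ← h5]
    group
  · obtain ⟨v, μ, h4, h5, h6⟩ := exists_linearIndependent ρ hx h0 J fun j hj =>
      (h3 j hj).imp fun _ => And.right
    have h7 := h4.fintype_card_le_finrank
    rw [map_mul, map_mul]
    have h8 : Fintype.card J = finrank ℂ V := by
      rw [Fintype.card_coe] at h7 ⊢
      omega
    exact commute_of_commute (basisOfLinearIndependentOfCardEqFinrank' v h4 h8) h5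
      (by rwa [coe_basisOfLinearIndependentOfCardEqFinrank']) (hc.map ρ) (hc'.map ρ)

/-- The element `x` permutes the other Sylow subgroups transitively. -/
theorem exists_pow_smul (hd : 2 * finrank ℂ V ≤ p) {P Q R : Sylow p G} (hP : P = zpowers x)
    (hQ : Q ≠ P) (hR : R ≠ P) : ∃ i : ℕ, x ^ i • Q = R := by
  obtain ⟨-, ψ, -, h2, -, h3⟩ := exists_psl_ker ρ hρ hx hsq hn hd rfl (subset_normalClosure rfl)
  obtain ⟨y, h4, h5, -⟩ := psl_unip h2
  have h6 : ∀ g : normalClosure ({x} : Set G), (g : G) • P = P ↔ toP (ψ g) • y = y := fun g => by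
    rw [smul_eq_iff hP, ← h4]
    refine ⟨fun h => ?_, fun h => ?_⟩ <;> obtain ⟨k, hk⟩ := exists_conj_eq_pow h
    · exact PGroup.mem_normalizer_zpowers (((h3 g k).2 hk).trans (zpow_natCast ..).symm)
    · exact PGroup.mem_normalizer_zpowers (((h3 g k).1 hk).trans (zpow_natCast ..).symm)
  have h7 : ∀ Q, ∃ g : normalClosure ({x} : Set G), (g : G) • P = Q := fun Q => by
    obtain ⟨g, rfl⟩ := MulAction.exists_smul_eq G P Q
    obtain ⟨a, ha, b, hb, rfl⟩ := exists_mul_normalizer hx hsq g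
    exact ⟨⟨a, ha⟩, by rw [mul_smul, (smul_eq_iff hP).2 hb]⟩
  obtain ⟨a, rfl⟩ := h7 Q
  obtain ⟨b, rfl⟩ := h7 R
  obtain ⟨i, hi⟩ := h5 _ _ (mt (h6 a).2 hQ) (mt (h6 b).2 hR)
  have := (h6 (b⁻¹ * (⟨x, subset_normalClosure rfl⟩ ^ i * a))).2 (by
    rw [map_mul, map_mul, map_mul, map_mul, mul_smul, mul_smul, map_pow ψ, hi, map_inv, map_inv,
      inv_smul_smul])
  exact ⟨i, by rwa [Subgroup.coe_mul, Subgroup.coe_mul, mul_smul, mul_smul, Subgroup.coe_inv,
    inv_smul_eq_iff] at this⟩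

theorem exists_pow_mul (hd : 2 * finrank ℂ V ≤ p) {c : G} (hc : Commute c x) :
    ∃ i : ℕ, c⁻¹ * x ^ i ∈ centralizer (normalClosure ({x} : Set G) : Set G) := by
  obtain ⟨P, hP⟩ := exists_sylow_eq_zpowers hx hsq
  have h1 := (exists_psl_of_complex ρ hρ hx hsq hn hd).1
  obtain ⟨Q, hQ⟩ : ∃ Q, Q ≠ P := by
    by_contra! h
    exact hn (hP ▸ normalizer_eq_top_iff.1 (eq_top_iff.2 fun g _ =>
      Sylow.smul_eq_iff_mem_normalizer.1 (h _)))
  have h2 : MulAction.toPermHom G (Sylow p G) x ≠ 1 := fun e => by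
    have h3 : x ∈ (P : Subgroup G) ⊓ normalizer (Q : Set G) := ⟨hP ▸ mem_zpowers x,
      Sylow.smul_eq_iff_mem_normalizer.1 (DFunLike.congr_fun e Q)⟩
    rw [P.2.inf_normalizer_sylow] at h3
    exact hQ (Sylow.ext (P.is_maximal' Q.2 (hP ▸ zpowers_le.2 h3.2)))
  have h3 : ¬ p ∣ Nat.card (MulAction.toPermHom G (Sylow p G)).ker := fun h => hsq (by
    rw [← (MulAction.toPermHom G (Sylow p G)).ker.card_mul_index, index_ker, sq]
    exact mul_dvd_mul h ((orderOf_eq_prime (by
      rw [← map_pow, show x ^ p = 1 from hx ▸ pow_orderOf_eq_one x, map_one]) h2).symm.dvd.trans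
      ((MulAction.toPermHom G (Sylow p G)).range.orderOf_dvd_natCard ⟨x, rfl⟩)))
  have h4 := le_centralizer_of_small P (by rw [hP, Nat.card_zpowers, hx]) (isCharacter_character ρ)
    (fun g hg => hρ (((character_eq_character_one_iff ρ g).1 hg).trans ρ.map_one.symm))
    (by rw [charDegree_character]; omega) h3
  rw [le_centralizer_iff, hP, zpowers_le] at h4
  replace h4 := le_centralizer_iff.1 (normalClosure_le_normal (Set.singleton_subset_iff.2 h4))
  have h5 : ∀ c, Commute c x → c • P = P := fun c hc => (smul_eq_iff hP).2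
    (PGroup.mem_normalizer_zpowers (k := 1) (by rw [hc.eq, mul_inv_cancel_right, zpow_one]))
  obtain ⟨i, hi⟩ := exists_pow_smul ρ hρ hx hsq hn hd hP hQ (R := c • Q) fun e =>
    hQ (MulAction.injective c (e.trans (h5 c hc).symm))
  have h6 : Commute (c⁻¹ * x ^ i) x := hc.inv_left.mul_left (Commute.pow_self ..)
  refine ⟨i, h4 (Equiv.ext fun R => show (c⁻¹ * x ^ i) • R = R from ?_)⟩
  rcases eq_or_ne R P with rfl | hR
  · exact h5 _ h6
  · obtain ⟨j, rfl⟩ := exists_pow_smul ρ hρ hx hsq hn hd hP hQ hR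
    rw [← mul_smul, (h6.pow_right j).eq, mul_smul, mul_smul, hi, inv_smul_smul]

/-- **Brauer**: a faithful representation of degree `(p - 1) / 2`. -/
theorem quotient_equiv_psl (hd : 2 * finrank ℂ V + 1 = p) :
    Nonempty (G ⧸ center G ≃* PSL(2, ZMod p)) := by
  obtain ⟨h1, h2⟩ := half_aux ρ hρ hx hsq hn hd
  have h0 : x ∈ normalClosure {x} := subset_normalClosure rfl
  have h3 : centralizer (normalClosure ({x} : Set G) : Set G) ≤ center G := fun z hz =>
    mem_center_iff.2 fun g => by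
      obtain ⟨a, ha, c, hc, rfl⟩ := h1 g
      exact ((show Commute a z from hz a ha).mul_left (h2 c z hc (hz x h0).symm)).eq
  obtain ⟨h4, ψ, h5, h6, h7, -⟩ := exists_psl_ker ρ hρ hx hsq hn (by omega) rfl h0
  have h8 : Function.Surjective ((QuotientGroup.mk' (center G)).comp
      (normalClosure ({x} : Set G)).subtype) := fun g => by
    obtain ⟨g, rfl⟩ := QuotientGroup.mk_surjective g
    obtain ⟨a, ha, c, hc, rfl⟩ := h1 g
    obtain ⟨i, hi⟩ := exists_pow_mul ρ hρ hx hsq hn (by omega) hc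
    refine ⟨⟨a * x ^ i, mul_mem ha (pow_mem h0 i)⟩, (QuotientGroup.eq.2 ?_).symm⟩
    simpa [mul_assoc] using h3 hi
  refine ⟨(QuotientGroup.quotientKerEquivOfSurjective _ h8).symm.trans
    ((QuotientGroup.quotientMulEquivOfEq (le_antisymm (fun z hz => ?_) fun z hz => ?_)).trans
      (QuotientGroup.quotientKerEquivOfSurjective _ h5))⟩
  · have h9 : (z : G) ∈ center G := (QuotientGroup.eq_one_iff _).1 hz
    have := isSimpleGroup_psl (F := ZMod p) (by rwa [Nat.card_zmod])
    obtain ⟨y, h10, -, ⟨g, hg⟩, -⟩ := psl_unip h6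
    refine ((this.eq_bot_or_eq_top_of_normal (center _) inferInstance).resolve_right fun e => hg
      ((h10 g).1 (center_le_normalizer _ (e.ge (mem_top g))))).le (mem_center_iff.2 fun g => ?_)
    obtain ⟨g, rfl⟩ := h5 g
    rw [← map_mul, ← map_mul]
    exact congrArg ψ (Subtype.ext (mem_center_iff.1 h9 g))
  · exact (QuotientGroup.eq_one_iff _).2 (h3 fun a ha =>
      congrArg Subtype.val (mem_center_iff.1 (h7 hz) ⟨a, ha⟩))

end Cfsg.Lib.Cyc
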